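import Groth.Agent.Lib.Helper90.QF.Main
import Groth.Agent.S8943
import Groth.Agent.Lib.Helper6.RestrPC

/-!
# Vanishing of `H^i(ω_{A/R})` below minus the fibre dimension: the derived-category chain (helper90)

`R → A` finite type, `B` a common open of `Spec A` and of `Spec C` with `C` finite over
`T = R[t_1..t_d]`.  Then `H^i(ω_{A/R}) ⊗_A B = 0` for `i < -d`.
-/

set_option autoImplicit false
set_option linter.unusedSectionVars false
set_option linter.style.haveILetI false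
universe u
open CategoryTheory CategoryTheory.Limits DerivedCategory AlgebraicGeometry
open scoped TensorProduct
attribute [local instance] HasDerivedCategory.standard

namespace Groth.Agent.Lib.Helper90.QF

open Groth.Agent.Lib.Helper90.Shriek

/-- A right adjoint of restriction of scalars is left t-exact. -/
lemma isGE_rightAdj {A B : Type u} [CommRing A] [CommRing B] (f : A →+* B)
    (R' : Dual.D A ⥤ Dual.D B) (adj : DRing.restrictD f ⊣ R') (K : Dual.D A) (a : ℤ)
    [K.IsGE a] : (R'.obj K).IsGE a := by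
  refine (TStructure.t.isGE_iff_orthogonal (a - 1) a (by omega) _).2 ?_
  intro Y g hY
  haveI : Y.IsLE (a - 1) := hY
  haveI := Groth.Agent.Lib.Helper6.RestrPC.isLE_rD f Y (a - 1)
  have h0 : (adj.homEquiv Y K).symm g = 0 :=
    TStructure.t.zero _ (a - 1) a (by omega)
  have h1 := congrArg (adj.homEquiv Y K) h0
  rw [Equiv.apply_symm_apply] at h1
  rw [h1]
  exact map_zero (adj.homAddEquiv Y K)

lemma subsingleton_hd_of_isGE {A : Type u} [CommRing A] (K : Dual.D A) (a : ℤ) [K.IsGE a]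
    (i : ℤ) (hi : i < a) : Subsingleton (Dual.HD A K i) := by
  have h : K.IsGE a := inferInstance
  rw [DerivedCategory.isGE_iff] at h
  exact ModuleCat.subsingleton_of_isZero (h i hi)

/-- The chain: `R → A → B` and `R → T = R[t_1..t_d] → C → B` with `C` finite over `T` and `B` open in
both `Spec A` and `Spec C`. -/
theorem subsingleton_tensor_hd_of_chain (R A C B : Type u) [CommRing R] [CommRing A] [CommRing C]
    [CommRing B] [IsNoetherianRing R] [IsNoetherianRing A] [IsNoetherianRing C] [IsNoetherianRing B]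
    (d : ℕ) [Algebra R A] [Algebra (MvPolynomial (Fin d) R) C] [Algebra C B] [Algebra A B]
    [Algebra R B] [Algebra (MvPolynomial (Fin d) R) B]
    [IsScalarTower R A B] [IsScalarTower R (MvPolynomial (Fin d) R) B]
    [IsScalarTower (MvPolynomial (Fin d) R) C B]
    [Module.Finite (MvPolynomial (Fin d) R) C] [Module.Flat A B] [Module.Flat C B]
    [Algebra.FiniteType R B]
    (hAB : IsOpenImmersion (Spec.map (CommRingCat.ofHom (algebraMap A B))))
    (hCB : IsOpenImmersion (Spec.map (CommRingCat.ofHom (algebraMap C B))))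
    (n : ℕ) (ψ : MvPolynomial (Fin n) R →ₐ[R] A) (hψ : Function.Surjective ψ)
    [DRing.HasLBaseChange (algebraMap R (MvPolynomial (Fin n) R))]
    (Rψ : Dual.D (MvPolynomial (Fin n) R) ⥤ Dual.D A) (adj : DRing.restrictD ψ.toRingHom ⊣ Rψ)
    (i : ℤ) (hi : i < -(d : ℤ)) :
    Subsingleton (B ⊗[A] Dual.HD A (Dual2.shriekVia n Rψ (Dual.inD R R)) i) := by
  classical
  -- presentations
  haveI : Algebra.FiniteType A B := Algebra.FiniteType.of_restrictScalars_finiteType R A B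
  haveI : Algebra.FiniteType (MvPolynomial (Fin d) R) B :=
    Algebra.FiniteType.of_restrictScalars_finiteType R (MvPolynomial (Fin d) R) B
  haveI : Algebra.FiniteType C B :=
    Algebra.FiniteType.of_restrictScalars_finiteType (MvPolynomial (Fin d) R) C B
  haveI : Algebra.FiniteType (MvPolynomial (Fin d) R) C := inferInstance
  obtain ⟨k, θ, hθ⟩ := Algebra.FiniteType.iff_quotient_mvPolynomial''.mp
    (inferInstance : Algebra.FiniteType R B)
  obtain ⟨m₁, χ₁, hχ₁⟩ := Algebra.FiniteType.iff_quotient_mvPolynomial''.mp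
    (inferInstance : Algebra.FiniteType A B)
  obtain ⟨m₂, χ₂, hχ₂⟩ := Algebra.FiniteType.iff_quotient_mvPolynomial''.mp
    (inferInstance : Algebra.FiniteType (MvPolynomial (Fin d) R) B)
  obtain ⟨m₃, χ₃, hχ₃⟩ := Algebra.FiniteType.iff_quotient_mvPolynomial''.mp
    (inferInstance : Algebra.FiniteType C B)
  obtain ⟨k', π, hπ⟩ := Algebra.FiniteType.iff_quotient_mvPolynomial''.mp
    (inferInstance : Algebra.FiniteType (MvPolynomial (Fin d) R) C)
  let idT : MvPolynomial (Fin d) R →ₐ[R] MvPolynomial (Fin d) R := AlgHom.id R _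
  have hidT : Function.Surjective idT := Function.surjective_id
  -- base change functors and right adjoints
  haveI := hasLBaseChange (algebraMap R (MvPolynomial (Fin k) R))
  haveI := hasLBaseChange (algebraMap R (MvPolynomial (Fin d) R))
  haveI := hasLBaseChange (algebraMap A (MvPolynomial (Fin m₁) A))
  haveI := hasLBaseChange (algebraMap (MvPolynomial (Fin d) R)
    (MvPolynomial (Fin m₂) (MvPolynomial (Fin d) R)))
  haveI := hasLBaseChange (algebraMap (MvPolynomial (Fin d) R)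
    (MvPolynomial (Fin k') (MvPolynomial (Fin d) R)))
  haveI := hasLBaseChange (algebraMap C (MvPolynomial (Fin m₃) C))
  haveI := hasLBaseChange (algebraMap A B)
  haveI := hasLBaseChange (algebraMap C B)
  obtain ⟨Rθ, ⟨adjθ⟩⟩ := exists_rightAdjoint_restrictD θ.toRingHom
  obtain ⟨Rχ₁, ⟨adjχ₁⟩⟩ := exists_rightAdjoint_restrictD χ₁.toRingHom
  obtain ⟨Rχ₂, ⟨adjχ₂⟩⟩ := exists_rightAdjoint_restrictD χ₂.toRingHom
  obtain ⟨Rχ₃, ⟨adjχ₃⟩⟩ := exists_rightAdjoint_restrictD χ₃.toRingHom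
  obtain ⟨Rπ, ⟨adjπ⟩⟩ := exists_rightAdjoint_restrictD π.toRingHom
  obtain ⟨Rid, ⟨adjid⟩⟩ := exists_rightAdjoint_restrictD idT.toRingHom
  obtain ⟨R', ⟨adjR'⟩⟩ := exists_rightAdjoint_restrictD (algebraMap (MvPolynomial (Fin d) R) C)
  -- the two sides
  have hR : ∀ j : ℤ, j < 0 → Subsingleton (Dual.HD R (Dual.inD R R) j) :=
    fun j hj => subsingleton_hd_inD_of_neg R R j hj
  obtain ⟨e1⟩ := Groth.Agent.S1799.result R A B n ψ hψ Rψ adj m₁ χ₁ hχ₁ Rχ₁ adjχ₁ k θ hθ Rθ adjθ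
    (Dual.inD R R) 0 hR
  obtain ⟨e2⟩ := Groth.Agent.S8943.result A B hAB m₁ χ₁ hχ₁ Rχ₁ adjχ₁
    (Dual2.shriekVia n Rψ (Dual.inD R R))
  obtain ⟨e3⟩ := Groth.Agent.S1799.result R (MvPolynomial (Fin d) R) B d idT hidT Rid adjid
    m₂ χ₂ hχ₂ Rχ₂ adjχ₂ k θ hθ Rθ adjθ (Dual.inD R R) 0 hR
  -- ω_T is bounded below by -d
  set ωT : Dual.D (MvPolynomial (Fin d) R) := Dual2.shriekVia d Rid (Dual.inD R R) with hωT
  have hflat : (algebraMap R (MvPolynomial (Fin d) R)).Flat := by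
    rw [RingHom.flat_algebraMap_iff]
    infer_instance
  haveI : ((DRing.LBaseChange (algebraMap R (MvPolynomial (Fin d) R))).obj (Dual.inD R R)).IsGE 0 :=
    isGE_lbc_of_flat _ hflat (Dual.inD R R) 0 hR
  haveI : (Rid.obj ((DRing.LBaseChange (algebraMap R (MvPolynomial (Fin d) R))).obj
      (Dual.inD R R))).IsGE 0 := isGE_rightAdj idT.toRingHom Rid adjid _ 0
  haveI hωTge : ωT.IsGE (-(d : ℤ)) :=
    TStructure.t.isGE_shift _ 0 (d : ℤ) (-(d : ℤ)) (by omega)
  have hωTs : ∀ j : ℤ, j < -(d : ℤ) → Subsingleton (Dual.HD (MvPolynomial (Fin d) R) ωT j) :=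
    fun j hj => subsingleton_hd_of_isGE ωT (-(d : ℤ)) j hj
  obtain ⟨e4⟩ := Groth.Agent.S1799.result (MvPolynomial (Fin d) R) C B k' π hπ Rπ adjπ
    m₃ χ₃ hχ₃ Rχ₃ adjχ₃ m₂ χ₂ hχ₂ Rχ₂ adjχ₂ ωT (-(d : ℤ)) hωTs
  obtain ⟨e5⟩ := Groth.Agent.S8943.result C B hCB m₃ χ₃ hχ₃ Rχ₃ adjχ₃ (Dual2.shriekVia k' Rπ ωT)
  obtain ⟨e6⟩ := Groth.Agent.S1784.result (MvPolynomial (Fin d) R) C k' π hπ Rπ adjπ R' adjR' ωT
  let e : (DRing.LBaseChange (algebraMap A B)).obj (Dual2.shriekVia n Rψ (Dual.inD R R)) ≅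
      (DRing.LBaseChange (algebraMap C B)).obj (R'.obj ωT) :=
    e2.symm ≪≫ e1.symm ≪≫ e3 ≪≫ e4 ≪≫ e5 ≪≫ (DRing.LBaseChange (algebraMap C B)).mapIso e6
  haveI : (R'.obj ωT).IsGE (-(d : ℤ)) :=
    isGE_rightAdj (algebraMap (MvPolynomial (Fin d) R) C) R' adjR' ωT (-(d : ℤ))
  haveI : Subsingleton (Dual.HD C (R'.obj ωT) i) :=
    subsingleton_hd_of_isGE (R'.obj ωT) (-(d : ℤ)) i hi
  obtain ⟨l1⟩ := nonempty_hd_lbc_equiv C B (R'.obj ωT) i
  obtain ⟨l2⟩ := nonempty_hd_lbc_equiv A B (Dual2.shriekVia n Rψ (Dual.inD R R)) i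
  have hs : Subsingleton (B ⊗[C] Dual.HD C (R'.obj ωT) i) := by
    refine ⟨fun x y => ?_⟩
    have h0 : ∀ z : B ⊗[C] Dual.HD C (R'.obj ωT) i, z = 0 := by
      intro z
      induction z using TensorProduct.induction_on with
      | zero => rfl
      | tmul b m => rw [Subsingleton.elim m 0, TensorProduct.tmul_zero]
      | add z w hz hw => rw [hz, hw, add_zero]
    rw [h0 x, h0 y]
  exact (((homologyFunctor (ModuleCat.{u} B) i).mapIso e).toLinearEquiv.trans l1).symm.trans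
    l2 |>.symm.toEquiv.subsingleton_congr.mpr hs |> fun h => h

end Groth.Agent.Lib.Helper90.QF
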