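import Groth.Agent.Lib.Helper35.HDIFlat
import Groth.Agent.Lib.Helper12.FlatCxRank

/-!
# Cohomology of a flat derived base change as a tensor product (helper90)
-/

set_option autoImplicit false
set_option linter.unusedSectionVars false
set_option linter.style.haveILetI false
universe u
open CategoryTheory CategoryTheory.Limits DerivedCategory
open scoped TensorProduct
attribute [local instance] HasDerivedCategory.standard

namespace Groth.Agent.Lib.Helper90.QF

variable (A B : Type u) [CommRing A] [CommRing B] [Algebra A B] [Module.Flat A B]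
  [DRing.HasLBaseChange (algebraMap A B)]

theorem nonempty_hd_lbc_equiv (K : Dual.D A) (i : ℤ) :
    Nonempty (Dual.HD B ((DRing.LBaseChange (algebraMap A B)).obj K) i ≃ₗ[B]
      (B ⊗[A] Dual.HD A K i)) := by
  have hφ : (algebraMap A B).Flat := by
    rw [RingHom.flat_algebraMap_iff]
    infer_instance
  obtain ⟨e⟩ := Groth.Agent.Lib.Helper35.HDIFlat.nonempty_homology_lbc_iso (algebraMap A B) hφ K i
  exact ⟨e.toLinearEquiv.trans
    (Groth.Agent.Lib.Helper12.FlatCx.extendScalarsObjEquiv (S := B)
      ((homologyFunctor (ModuleCat.{u} A) i).obj K))⟩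

end Groth.Agent.Lib.Helper90.QF
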