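import Mathlib

/-!
# Vanishing of a localization at a prime from vanishing of a base change (helper90)
-/

set_option autoImplicit false
set_option linter.style.haveILetI false
universe u
open scoped TensorProduct

namespace Groth.Agent.Lib.Helper90.QF

lemma subsingleton_tensor_of_subsingleton {A : Type*} [CommRing A] (N M : Type*) [AddCommGroup N]
    [Module A N] [AddCommGroup M] [Module A M] [Subsingleton M] : Subsingleton (N ⊗[A] M) := by
  refine ⟨fun x y => ?_⟩
  have h0 : ∀ z : N ⊗[A] M, z = 0 := by
    intro z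
    induction z using TensorProduct.induction_on with
    | zero => rfl
    | tmul b m => rw [Subsingleton.elim m 0, TensorProduct.tmul_zero]
    | add z w hz hw => rw [hz, hw, add_zero]
  rw [h0 x, h0 y]

/-- If `A → B → C` and `B ⊗_A M = 0` then `C ⊗_A M = 0`. -/
lemma subsingleton_tensor_of_factor {A B C : Type u} [CommRing A] [CommRing B] [CommRing C]
    [Algebra A B] [Algebra A C] (f : B →+* C)
    (hf : ∀ a : A, f (algebraMap A B a) = algebraMap A C a)
    (M : Type u) [AddCommGroup M] [Module A M] (h : Subsingleton (B ⊗[A] M)) :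
    Subsingleton (C ⊗[A] M) := by
  letI : Algebra B C := f.toAlgebra
  haveI : IsScalarTower A B C := IsScalarTower.of_algebraMap_eq (fun a => (hf a).symm)
  have e1 : C ⊗[B] (B ⊗[A] M) ≃ₗ[C] C ⊗[A] M :=
    TensorProduct.AlgebraTensorModule.cancelBaseChange A B C C M
  haveI : Subsingleton (C ⊗[B] (B ⊗[A] M)) := subsingleton_tensor_of_subsingleton _ _
  exact e1.symm.toEquiv.subsingleton

/-- Global Nakayama: a finite module with `M/𝔪M = 0` for all maximal ideals vanishes. -/
lemma subsingleton_of_forall_tensor_quotient_maximal {A : Type u} [CommRing A] (M : Type u)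
    [AddCommGroup M] [Module A M] [Module.Finite A M]
    (h : ∀ (𝔪 : Ideal A) [𝔪.IsMaximal], Subsingleton ((A ⧸ 𝔪) ⊗[A] M)) : Subsingleton M := by
  by_contra hM
  rw [not_subsingleton_iff_nontrivial] at hM
  have hann : Module.annihilator A M ≠ ⊤ := by
    intro htop
    obtain ⟨x, hx⟩ := exists_ne (0 : M)
    have h1 : (1 : A) ∈ Module.annihilator A M := htop ▸ Submodule.mem_top
    rw [Module.mem_annihilator] at h1
    exact hx (by simpa using h1 x)
  obtain ⟨𝔪, h𝔪, hle⟩ := Ideal.exists_le_maximal _ hann
  haveI := h𝔪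
  haveI := h 𝔪
  have htop : 𝔪 • (⊤ : Submodule A M) = ⊤ := by
    rw [← Submodule.Quotient.subsingleton_iff]
    exact (TensorProduct.quotTensorEquivQuotSMul M 𝔪).symm.toEquiv.subsingleton
  obtain ⟨r, hr1, hr2⟩ := Submodule.exists_sub_one_mem_and_smul_eq_zero_of_fg_of_le_smul 𝔪
    (⊤ : Submodule A M) Module.Finite.fg_top (le_of_eq htop.symm)
  have hr : r ∈ 𝔪 := hle (by
    rw [Module.mem_annihilator]
    exact fun x => hr2 x Submodule.mem_top)
  have h1 : (1 : A) ∈ 𝔪 := by
    have := 𝔪.sub_mem hr hr1
    simpa using this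
  exact h𝔪.ne_top ((Ideal.eq_top_iff_one 𝔪).2 h1)

/-- If `A → B → A_q` and `B ⊗_A M = 0` then `M_q = 0`. -/
lemma subsingleton_localizedModule_of_tensor {A B : Type u} [CommRing A] [CommRing B] [Algebra A B]
    (q : Ideal A) [q.IsPrime] (f : B →+* Localization.AtPrime q)
    (hf : ∀ a : A, f (algebraMap A B a) = algebraMap A (Localization.AtPrime q) a)
    (M : Type u) [AddCommGroup M] [Module A M] (h : Subsingleton (B ⊗[A] M)) :
    Subsingleton (LocalizedModule q.primeCompl M) := by
  letI : Algebra B (Localization.AtPrime q) := f.toAlgebra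
  haveI : IsScalarTower A B (Localization.AtPrime q) :=
    IsScalarTower.of_algebraMap_eq (fun a => (hf a).symm)
  have e1 : Localization.AtPrime q ⊗[B] (B ⊗[A] M) ≃ₗ[Localization.AtPrime q]
      Localization.AtPrime q ⊗[A] M :=
    TensorProduct.AlgebraTensorModule.cancelBaseChange A B (Localization.AtPrime q)
      (Localization.AtPrime q) M
  haveI : Subsingleton (Localization.AtPrime q ⊗[B] (B ⊗[A] M)) :=
    subsingleton_tensor_of_subsingleton _ _
  haveI : Subsingleton (Localization.AtPrime q ⊗[A] M) := e1.symm.toEquiv.subsingleton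
  have hbc := IsLocalizedModule.isBaseChange q.primeCompl (Localization.AtPrime q)
    (LocalizedModule.mkLinearMap q.primeCompl M)
  exact hbc.equiv.symm.toEquiv.subsingleton

end Groth.Agent.Lib.Helper90.QF
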