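import Groth.Agent.S1789
import Groth.Agent.S0366
import Groth.Agent.S11185
import Groth.Agent.Lib.Helper6.HomSingle
import Groth.Agent.Lib.Helper90.QF.HDFlat
import Groth.Agent.Lib.Helper90.QF.LocTensor
import Groth.Agent.Lib.Helper90.QF.FibDimChain
import Groth.Agent.Lib.Helper90.Shriek.ExistsRAdj

/-!
# `H^i(ω_{F/k}) = 0` for `i > 0`, `F` of finite type over a field `k` (helper90)
-/

set_option autoImplicit false
set_option linter.style.haveILetI false
set_option linter.unusedSectionVars false
universe u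
open CategoryTheory CategoryTheory.Limits DerivedCategory
open scoped TensorProduct
attribute [local instance] HasDerivedCategory.standard

namespace Groth.Agent.Lib.Helper90.QF

open Groth.Agent.Lib.Helper90.Shriek

variable (k : Type u) [Field k]

theorem isDualizing_field : Dual.IsDualizing k (Dual.inD k k) := by
  apply Groth.Agent.S11185.result
  · intro p
    haveI : IsRegularRing k := inferInstance
    exact IsRegularRing.isRegularLocalRing_localization p.asIdeal
  · rw [ringKrullDim_eq_zero_of_field]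
    exact WithBot.coe_lt_coe.2 (ENat.natCast_lt_top 0)

lemma subsingleton_hd_inD_of_ne (A : Type u) [CommRing A] (M : Type u) [AddCommGroup M]
    [Module A M] (i : ℤ) (hi : i ≠ 0) : Subsingleton (Dual.HD A (Dual.inD A M) i) := by
  rcases lt_or_gt_of_ne hi with h | h
  · exact subsingleton_hd_inD_of_neg A M i h
  · have h0 : (Dual.inD A M).IsLE 0 := inferInstance
    rw [DerivedCategory.isLE_iff] at h0
    exact ModuleCat.subsingleton_of_isZero (h0 i h)

theorem isNormalized_field : Dual.IsNormalized k (Dual.inD k k) := by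
  intro i hi
  have hbij : Function.Bijective (IsLocalRing.residue k) := by
    refine ⟨?_, IsLocalRing.residue_surjective⟩
    rw [injective_iff_map_eq_zero]
    intro x hx
    by_contra hne
    have hu : IsUnit x := isUnit_iff_ne_zero.2 hne
    exact (IsLocalRing.residue_ne_zero_iff_isUnit x).2 hu hx
  let el : k ≃ₗ[k] IsLocalRing.ResidueField k :=
    LinearEquiv.ofBijective
      { toFun := IsLocalRing.residue k
        map_add' := map_add _
        map_smul' := fun a x => by
          simp only [smul_eq_mul, map_mul, RingHom.id_apply]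
          rfl } hbij
  let eD : Dual.inD k k ≅ Dual.inD k (IsLocalRing.ResidueField k) :=
    (singleFunctor (ModuleCat.{u} k) 0).mapIso el.toModuleIso
  obtain ⟨e⟩ := Groth.Agent.Lib.Helper6.HomSingle.nonempty_homSingleEquiv (Dual.inD k k) i
  haveI := subsingleton_hd_inD_of_ne k k i hi
  haveI : Subsingleton (Dual.inD k k ⟶ (Dual.inD k k)⟦i⟧) := e.toEquiv.subsingleton
  exact (Iso.homCongr eD (Iso.refl _)).symm.subsingleton

variable (F : Type u) [CommRing F] [IsNoetherianRing F] [Algebra k F] (m : ℕ)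
  (ψ' : MvPolynomial (Fin m) k →ₐ[k] F) (hψ' : Function.Surjective ψ')
  [DRing.HasLBaseChange (algebraMap k (MvPolynomial (Fin m) k))]
  (Rψ' : Dual.D (MvPolynomial (Fin m) k) ⥤ Dual.D F) (adj' : DRing.restrictD ψ'.toRingHom ⊣ Rψ')

include hψ' adj' in
/-- over a field, `ω_{F/k}` has no cohomology in positive degrees. -/
theorem subsingleton_hd_shriek_field_of_pos (i : ℤ) (hi : 0 < i) :
    Subsingleton (Dual.HD F (Dual2.shriekVia m Rψ' (Dual.inD k k)) i) := by
  classical
  refine Module.subsingleton_of_localization_maximal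
    (fun (P : Ideal F) [P.IsMaximal] => LocalizedModule P.primeCompl
      (Dual.HD F (Dual2.shriekVia m Rψ' (Dual.inD k k)) i))
    (fun (P : Ideal F) [P.IsMaximal] => LocalizedModule.mkLinearMap P.primeCompl
      (Dual.HD F (Dual2.shriekVia m Rψ' (Dual.inD k k)) i)) ?_
  intro 𝔫 h𝔫
  haveI := hasLBaseChange (algebraMap F (Localization.AtPrime 𝔫))
  have hm : 𝔫.comap (algebraMap k F) = IsLocalRing.maximalIdeal k := by
    have h1 : IsLocalRing.maximalIdeal k = ⊥ := IsLocalRing.maximalIdeal_eq_bot
    rw [h1]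
    rcases Ideal.eq_bot_or_top (𝔫.comap (algebraMap k F)) with h | h
    · exact h
    · exfalso
      exact (Ideal.comap_ne_top (algebraMap k F) h𝔫.ne_top) h
  obtain ⟨hd, hn⟩ := Groth.Agent.S1789.result k F m ψ' hψ' Rψ' adj' 𝔫 hm (Dual.inD k k)
    (isDualizing_field k) (isNormalized_field k)
  obtain ⟨dn, hdn⟩ : ∃ dn : ℕ, Module.supportDim (Localization.AtPrime 𝔫)
      (Localization.AtPrime 𝔫) = dn := by
    rw [Module.supportDim_self_eq_ringKrullDim]
    have h1 : ringKrullDim (Localization.AtPrime 𝔫) < ⊤ := ringKrullDim_lt_top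
    have h2 : ringKrullDim (Localization.AtPrime 𝔫) ≠ ⊥ := ringKrullDim_ne_bot
    obtain ⟨x, hx⟩ := WithBot.ne_bot_iff_exists.1 h2
    rw [← hx] at h1 ⊢
    have h3 : x ≠ ⊤ := by
      intro h
      rw [h] at h1
      exact lt_irrefl _ h1
    obtain ⟨n, hn⟩ := ENat.ne_top_iff_exists.1 h3
    exact ⟨n, by rw [← hn]; rfl⟩
  have h0366 := (Groth.Agent.S0366.result (Localization.AtPrime 𝔫) _ hd hn
    (Localization.AtPrime 𝔫) dn hdn i).1
  haveI hsub : Subsingleton (Dual.inD (Localization.AtPrime 𝔫) (Localization.AtPrime 𝔫) ⟶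
      ((DRing.LBaseChange (algebraMap F (Localization.AtPrime 𝔫))).obj
        (Dual2.shriekVia m Rψ' (Dual.inD k k)))⟦i⟧) := by
    rw [← not_nontrivial_iff_subsingleton]
    intro hnt
    have := (h0366 hnt).2
    omega
  obtain ⟨e⟩ := Groth.Agent.Lib.Helper6.HomSingle.nonempty_homSingleEquiv
    ((DRing.LBaseChange (algebraMap F (Localization.AtPrime 𝔫))).obj
      (Dual2.shriekVia m Rψ' (Dual.inD k k))) i
  obtain ⟨l⟩ := nonempty_hd_lbc_equiv F (Localization.AtPrime 𝔫)
    (Dual2.shriekVia m Rψ' (Dual.inD k k)) i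
  have hten : Subsingleton (Localization.AtPrime 𝔫 ⊗[F]
      Dual.HD F (Dual2.shriekVia m Rψ' (Dual.inD k k)) i) :=
    (l.symm.toEquiv.trans e.symm.toEquiv).subsingleton
  exact subsingleton_localizedModule_of_tensor 𝔫 (RingHom.id _) (fun _ => rfl) _ hten

end Groth.Agent.Lib.Helper90.QF
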