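import Mathlib

/-!
# Flatness of a cokernel tested on cyclic modules (helper90)

`F₁ → F₂ → Z → 0` exact with `F₂` flat.  If for every ideal `I` every `x` with `d x ∈ I F₂` can be
corrected by an element of `I F₁` (i.e. `Tor_1(Z, R/I) = 0`), then `Z` is flat.
-/

set_option autoImplicit false
set_option linter.style.haveILetI false
universe u
open scoped TensorProduct

namespace Groth.Agent.Lib.Helper90.QF

variable {R : Type u} [CommRing R]

/-- the multiplication map `I ⊗ M → M`. -/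
noncomputable def mulMap (I : Ideal R) (M : Type u) [AddCommGroup M] [Module R M] : I ⊗[R] M →ₗ[R] M :=
  (TensorProduct.lid R M).toLinearMap ∘ₗ LinearMap.rTensor M I.subtype

lemma mulMap_tmul (I : Ideal R) (M : Type u) [AddCommGroup M] [Module R M] (a : I) (m : M) :
    mulMap I M (a ⊗ₜ m) = (a : R) • m := by
  simp [mulMap]

lemma mulMap_mem (I : Ideal R) (M : Type u) [AddCommGroup M] [Module R M] (t : I ⊗[R] M) :
    mulMap I M t ∈ I • (⊤ : Submodule R M) := by
  induction t using TensorProduct.induction_on with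
  | zero => rw [map_zero]; exact zero_mem _
  | tmul a m => rw [mulMap_tmul]; exact Submodule.smul_mem_smul a.2 Submodule.mem_top
  | add x y hx hy => rw [map_add]; exact add_mem hx hy

lemma exists_mulMap_eq (I : Ideal R) (M : Type u) [AddCommGroup M] [Module R M] (x : M)
    (hx : x ∈ I • (⊤ : Submodule R M)) : ∃ t : I ⊗[R] M, mulMap I M t = x := by
  refine Submodule.smul_induction_on hx ?_ ?_
  · intro a ha m _
    exact ⟨(⟨a, ha⟩ : I) ⊗ₜ m, mulMap_tmul I M _ m⟩
  · rintro x y ⟨s, hs⟩ ⟨t, ht⟩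
    exact ⟨s + t, by rw [map_add, hs, ht]⟩

lemma mulMap_naturality (I : Ideal R) {M N : Type u} [AddCommGroup M] [Module R M]
    [AddCommGroup N] [Module R N] (f : M →ₗ[R] N) (t : I ⊗[R] M) :
    mulMap I N (LinearMap.lTensor I f t) = f (mulMap I M t) := by
  induction t using TensorProduct.induction_on with
  | zero => simp
  | tmul a m => simp [mulMap_tmul]
  | add x y hx hy => simp only [map_add, hx, hy]

lemma mulMap_injective_of_flat (I : Ideal R) (M : Type u) [AddCommGroup M] [Module R M]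
    [Module.Flat R M] : Function.Injective (mulMap I M) := by
  have h := (Module.Flat.iff_rTensor_injective' (R := R) (M := M)).1 inferInstance I
  intro x y hxy
  apply h
  exact (TensorProduct.lid R M).injective hxy

theorem flat_of_exact_quotient {F₁ F₂ Z : Type u} [AddCommGroup F₁] [Module R F₁]
    [AddCommGroup F₂] [Module R F₂] [AddCommGroup Z] [Module R Z] [Module.Flat R F₂]
    (d : F₁ →ₗ[R] F₂) (π : F₂ →ₗ[R] Z) (hπ : Function.Surjective π) (hex : Function.Exact d π)
    (H : ∀ (I : Ideal R) (x : F₁), d x ∈ I • (⊤ : Submodule R F₂) →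
      ∃ x' ∈ I • (⊤ : Submodule R F₁), d x' = d x) :
    Module.Flat R Z := by
  rw [Module.Flat.iff_rTensor_injective']
  intro I
  rw [injective_iff_map_eq_zero]
  intro x hx
  have hx' : mulMap I Z x = 0 := by
    change (TensorProduct.lid R Z) (LinearMap.rTensor Z I.subtype x) = 0
    rw [hx, map_zero]
  obtain ⟨y, rfl⟩ := LinearMap.lTensor_surjective I hπ x
  rw [mulMap_naturality] at hx'
  obtain ⟨z, hz⟩ := (hex (mulMap I F₂ y)).1 hx'
  obtain ⟨x', hx'I, hdx'⟩ := H I z (by rw [hz]; exact mulMap_mem I F₂ y)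
  obtain ⟨w, hw⟩ := exists_mulMap_eq I F₁ x' hx'I
  have hy : LinearMap.lTensor I d w = y := by
    apply mulMap_injective_of_flat I F₂
    rw [mulMap_naturality, hw, hdx', hz]
  rw [← hy, ← LinearMap.comp_apply, ← LinearMap.lTensor_comp]
  have hcomp : π ∘ₗ d = 0 := by
    ext v
    exact hex.apply_apply_eq_zero v
  rw [hcomp, LinearMap.lTensor_zero, LinearMap.zero_apply]

/-- elementary form of exactness of `(R/I) ⊗ E` at the middle term. -/
theorem exists_sub_mem_of_exact_lTensor (I : Ideal R) {M₀ M₁ M₂ : Type u} [AddCommGroup M₀]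
    [Module R M₀] [AddCommGroup M₁] [Module R M₁] [AddCommGroup M₂] [Module R M₂]
    (δ : M₀ →ₗ[R] M₁) (d : M₁ →ₗ[R] M₂)
    (hex : Function.Exact (δ.lTensor (R ⧸ I)) (d.lTensor (R ⧸ I)))
    (x : M₁) (hx : d x ∈ I • (⊤ : Submodule R M₂)) :
    ∃ y : M₀, x - δ y ∈ I • (⊤ : Submodule R M₁) := by
  have key : ∀ (M : Type u) [AddCommGroup M] [Module R M] (m : M),
      ((1 : R ⧸ I) ⊗ₜ[R] m = 0) ↔ m ∈ I • (⊤ : Submodule R M) := by
    intro M _ _ m
    rw [← (TensorProduct.quotTensorEquivQuotSMul M I).map_eq_zero_iff]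
    have h1 : (TensorProduct.quotTensorEquivQuotSMul M I) ((1 : R ⧸ I) ⊗ₜ[R] m) =
        Submodule.Quotient.mk m := by
      change (TensorProduct.quotTensorEquivQuotSMul M I) ((Ideal.Quotient.mk I 1) ⊗ₜ[R] m) = _
      rw [TensorProduct.quotTensorEquivQuotSMul_mk_tmul, one_smul]
    rw [h1, Submodule.Quotient.mk_eq_zero]
  have hsurj : ∀ (M : Type u) [AddCommGroup M] [Module R M] (t : (R ⧸ I) ⊗[R] M),
      ∃ m : M, (1 : R ⧸ I) ⊗ₜ[R] m = t := by
    intro M _ _ t
    induction t using TensorProduct.induction_on with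
    | zero => exact ⟨0, TensorProduct.tmul_zero _ _⟩
    | tmul a m =>
      obtain ⟨a, rfl⟩ := Ideal.Quotient.mk_surjective a
      refine ⟨a • m, ?_⟩
      rw [TensorProduct.tmul_smul, TensorProduct.smul_tmul', Algebra.smul_def,
        Ideal.Quotient.algebraMap_eq, mul_one]
    | add s t hs ht =>
      obtain ⟨m, hm⟩ := hs
      obtain ⟨n, hn⟩ := ht
      exact ⟨m + n, by rw [TensorProduct.tmul_add, hm, hn]⟩
  have h1 : d.lTensor (R ⧸ I) ((1 : R ⧸ I) ⊗ₜ[R] x) = 0 := by
    rw [LinearMap.lTensor_tmul]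
    exact (key M₂ (d x)).2 hx
  obtain ⟨w, hw⟩ := (hex _).1 h1
  obtain ⟨y, rfl⟩ := hsurj M₀ w
  refine ⟨y, (key M₁ _).1 ?_⟩
  rw [TensorProduct.tmul_sub, ← hw, LinearMap.lTensor_tmul, sub_self]

end Groth.Agent.Lib.Helper90.QF
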