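import Groth.Agent.Lib.Helper35.TARes
import Groth.Agent.Lib.Helper35.FlatLBC
import Groth.Agent.Lib.Helper35.GlobalPerf
import Groth.Agent.Lib.Helper35.FlatBC
import Groth.Agent.Lib.Helper35.TorAmpLT
import Groth.Agent.Lib.Helper90.QF.FlatCoker

/-!
# Lower tor amplitude bound tested on the cyclic modules `R/I` (helper90)

If `K` has finite tor dimension, cohomology in `[i+1, b]` and `H^i(K ⊗^L R/I) = 0` for every ideal
`I`, then `K` has tor amplitude in `[i+1, b]`.
-/

set_option autoImplicit false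
set_option linter.style.haveILetI false
universe u
open CategoryTheory CategoryTheory.Limits DerivedCategory TensorProduct
attribute [local instance] HasDerivedCategory.standard

namespace Groth.Agent.Lib.Helper90.QF

open Groth.Agent.Lib.Helper35.FlatBC Groth.Agent.Lib.Helper35.TA Groth.Agent.Lib.Helper35.KL

variable {R : Type u} [CommRing R]

set_option backward.isDefEq.respectTransparency false in
theorem exact_lTensor_quot_of_flat (I : Ideal R) [DRing.HasLBaseChange (algebraMap R (R ⧸ I))]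
    (i : ℤ) (E : DRing.Cx R) (b : ℤ) (hEb : DRing.VanishesAbove E b)
    (hE : ∀ j : ℤ, Module.Flat R (E.X j)) (K : Dual.D R) (e : DRing.toD E ≅ K)
    (hi : Subsingleton (Dual.HD (R ⧸ I) ((DRing.LBaseChange (algebraMap R (R ⧸ I))).obj K) i)) :
    Function.Exact ((E.d (i - 1) i).hom.lTensor (R ⧸ I))
      ((E.d i (i + 1)).hom.lTensor (R ⧸ I)) := by
  obtain ⟨e1⟩ := nonempty_lbc_iso_of_flat
    (algebraMap R (R ⧸ I)) E b hEb hE
  have hz : IsZero ((homologyFunctor (ModuleCat.{u} (R ⧸ I)) i).obj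
      ((DRing.LBaseChange (algebraMap R (R ⧸ I))).obj K)) :=
    ModuleCat.isZero_of_subsingleton _
  have h1 := hz.of_iso ((homologyFunctor (ModuleCat.{u} (R ⧸ I)) i).mapIso
    ((DRing.LBaseChange (algebraMap R (R ⧸ I))).mapIso e.symm ≪≫ e1).symm)
  rw [isZero_homology_toD_iff,
    HomologicalComplex.exactAt_iff' _ (i - 1) i (i + 1) (by simp) (by simp),
    ShortComplex.ShortExact.moduleCat_exact_iff_function_exact] at h1
  have h2 : Function.Exact ((E.d (i - 1) i).hom.lTensor (B' R (R ⧸ I)))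
      ((E.d i (i + 1)).hom.lTensor (B' R (R ⧸ I))) := h1
  exact exact_lTensor_congr' (e₁ R (R ⧸ I)) _ _ h2

theorem TAmp_of_quot_vanishing (K : Dual.D R) (hK : DRing.HasFiniteTorDimCx R K) (i b : ℤ)
    [K.IsGE (i + 1)] [K.IsLE b]
    (H : ∀ (I : Ideal R) [DRing.HasLBaseChange (algebraMap R (R ⧸ I))],
      Subsingleton (Dual.HD (R ⧸ I) ((DRing.LBaseChange (algebraMap R (R ⧸ I))).obj K) i))
    (hL : ∀ I : Ideal R, DRing.HasLBaseChange (algebraMap R (R ⧸ I))) :
    DRing.HasTorAmplitudeIn R (i + 1) b K := by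
  obtain ⟨a₀, b₀, E, hv, hfl, ⟨e⟩⟩ := hK
  have hEb : DRing.VanishesAbove E b₀ := fun j hj => hv j (Or.inr hj)
  haveI : (Q.obj E).IsGE (i + 1) := TStructure.t.isGE_of_iso e.symm (i + 1)
  haveI : (Q.obj E).IsLE b := TStructure.t.isLE_of_iso e.symm b
  haveI : E.IsGE (i + 1) := (DerivedCategory.isGE_Q_obj_iff E (i + 1)).1 inferInstance
  haveI : E.IsLE b := (DerivedCategory.isLE_Q_obj_iff E b).1 inferInstance
  haveI : Module.Flat R (E.X (i + 1)) := hfl (i + 1)
  haveI hq : Module.Flat R (E.X (i + 1) ⧸ LinearMap.range (E.d i (i + 1)).hom) := by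
    refine flat_of_exact_quotient (E.d i (i + 1)).hom (LinearMap.range (E.d i (i + 1)).hom).mkQ
      (Submodule.mkQ_surjective _) (LinearMap.exact_map_mkQ_range _) ?_
    intro I x hx
    haveI := hL I
    have hex := exact_lTensor_quot_of_flat I i E b₀ hEb hfl K e (H I)
    obtain ⟨y, hy⟩ := exists_sub_mem_of_exact_lTensor I (E.d (i - 1) i).hom (E.d i (i + 1)).hom
      hex x hx
    refine ⟨x - (E.d (i - 1) i).hom y, hy, ?_⟩
    rw [map_sub]
    have hdd : (E.d i (i + 1)).hom ((E.d (i - 1) i).hom y) = 0 := by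
      rw [← ModuleCat.comp_apply, E.d_comp_d]
      rfl
    rw [hdd, sub_zero]
  haveI : Module.Flat R (E.opcycles (i + 1)) :=
    Module.Flat.of_linearEquiv (opcyclesLinearEquiv E i (i + 1) rfl).symm
  exact (TAmp_of_flat_opcycles E b₀ hEb hfl (i + 1) b).of_iso e

end Groth.Agent.Lib.Helper90.QF
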