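import Groth.Agent.Lib.Helper90.QF.OmegaFlatUpper
import Groth.Agent.Lib.Helper90.QF.TorAmpIdeal
import Groth.Agent.Lib.Helper35.BCIso
import Groth.Agent.Lib.Helper55.FiberBaseChange
import Groth.Agent.Lib.Helper55.DimFormulaIrredLocal
import Groth.Agent.Lib.Helper55.FibreDimFormula
import Groth.Agent.S1785

/-!
# Tor amplitude of `ω_{A/R}` over `R` for `R → A` flat of finite type (helper90)
-/

set_option autoImplicit false
set_option linter.style.haveILetI false
set_option linter.unusedSectionVars false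
universe u
open CategoryTheory CategoryTheory.Limits DerivedCategory AlgebraicGeometry
open scoped TensorProduct
attribute [local instance] HasDerivedCategory.standard

namespace Groth.Agent.Lib.Helper90.QF

open Groth.Agent.Lib.Helper90.Shriek Groth.Agent.Lib.Helper6

/-- the local fibre dimension of a morphism locally of finite type is a natural number. -/
theorem exists_nat_fibreDimAt' {X Y : Scheme.{u}} (f : X ⟶ Y) [LocallyOfFiniteType f] (x : X) :
    ∃ e : ℕ, FlatMor.fibreDimAt f x = e := by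
  obtain ⟨n, -, hn⟩ := Groth.Agent.Lib.Helper55.fibreDimAt_eq_stalk_fiber_add_trdeg f x
  obtain ⟨k, hk⟩ := Groth.Agent.Lib.Helper55.exists_nat_ringKrullDim_stalk_fiber f x
  exact ⟨k + n, by rw [hn, hk]; push_cast; rfl⟩

/-- fibre dimension bounds are stable under base change (affine form). -/
theorem fibreDimAt_baseChange_le (R A R' : Type u) [CommRing R] [CommRing A] [CommRing R']
    [Algebra R A] [Algebra R R'] [Algebra.FiniteType R A] (d : ℕ)
    (h : ∀ q : PrimeSpectrum A,
      FlatMor.fibreDimAt (Spec.map (CommRingCat.ofHom (algebraMap R A))) q ≤ (d : WithBot ℕ∞))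
    (q' : PrimeSpectrum (R' ⊗[R] A)) :
    FlatMor.fibreDimAt (Spec.map (CommRingCat.ofHom (algebraMap R' (R' ⊗[R] A)))) q' ≤
      (d : WithBot ℕ∞) := by
  have hpo := CommRingCat.isPushout_tensorProduct R R' A
  have hpb := (isPullback_SpecMap_of_isPushout _ _ _ _ hpo).flip
  haveI : LocallyOfFiniteType (Spec.map (CommRingCat.ofHom (algebraMap R A))) := by
    rw [HasRingHomProperty.Spec_iff (P := @LocallyOfFiniteType)]
    exact (RingHom.finiteType_algebraMap (A := R) (B := A)).mpr inferInstance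
  have key := Groth.Agent.Lib.Helper55.fibreDimAt_eq_of_isPullback
    (Spec.map (CommRingCat.ofHom (algebraMap R A))) (Spec.map (CommRingCat.ofHom (algebraMap R R')))
    _ _ hpb q'
  have halg : algebraMap R' (R' ⊗[R] A) = Algebra.TensorProduct.includeLeftRingHom := rfl
  rw [halg, key]
  exact h _

section Lower

variable (R A : Type u) [CommRing R] [CommRing A] [IsNoetherianRing R] [IsNoetherianRing A]
  [Algebra R A] (n : ℕ) (ψ : MvPolynomial (Fin n) R →ₐ[R] A)
  (hψ : Function.Surjective ψ) [DRing.HasLBaseChange (algebraMap R (MvPolynomial (Fin n) R))]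
  (Rψ : Dual.D (MvPolynomial (Fin n) R) ⥤ Dual.D A) (adj : DRing.restrictD ψ.toRingHom ⊣ Rψ)

include hψ adj in
/-- if all fibres have dimension `≤ d` then `H^i(ω) = 0` for `i < -d`. -/
theorem subsingleton_hd_omega_of_lt (d : ℕ)
    (hfib : ∀ q : PrimeSpectrum A,
      FlatMor.fibreDimAt (Spec.map (CommRingCat.ofHom (algebraMap R A))) q ≤ (d : WithBot ℕ∞))
    (i : ℤ) (hi : i < -(d : ℤ)) :
    Subsingleton (Dual.HD A (Dual2.shriekVia n Rψ (Dual.inD R R)) i) := by
  classical
  haveI : Algebra.FiniteType R A := Algebra.FiniteType.of_surjective ψ hψ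
  haveI : LocallyOfFiniteType (Spec.map (CommRingCat.ofHom (algebraMap R A))) := by
    rw [HasRingHomProperty.Spec_iff (P := @LocallyOfFiniteType)]
    exact (RingHom.finiteType_algebraMap (A := R) (B := A)).mpr inferInstance
  refine Module.subsingleton_of_localization_maximal
    (fun (P : Ideal A) [P.IsMaximal] => LocalizedModule P.primeCompl
      (Dual.HD A (Dual2.shriekVia n Rψ (Dual.inD R R)) i))
    (fun (P : Ideal A) [P.IsMaximal] => LocalizedModule.mkLinearMap P.primeCompl
      (Dual.HD A (Dual2.shriekVia n Rψ (Dual.inD R R)) i)) ?_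
  intro 𝔫 h𝔫
  by_contra hne
  rw [not_subsingleton_iff_nontrivial] at hne
  let q : PrimeSpectrum A := ⟨𝔫, h𝔫.isPrime⟩
  obtain ⟨e, he⟩ := exists_nat_fibreDimAt' (Spec.map (CommRingCat.ofHom (algebraMap R A))) q
  have hed : e ≤ d := by
    have := hfib q
    rw [he] at this
    exact_mod_cast this
  have := Groth.Agent.S1785.result R A n ψ hψ Rψ adj q e he i hne
  have : (e : ℤ) ≤ d := by exact_mod_cast hed
  omega

end Lower

section Flat

variable (R A : Type u) [CommRing R] [CommRing A] [IsNoetherianRing R] [IsNoetherianRing A]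
  [Algebra R A] [Module.Flat R A] (n : ℕ) (ψ : MvPolynomial (Fin n) R →ₐ[R] A)
  (hψ : Function.Surjective ψ) [DRing.HasLBaseChange (algebraMap R (MvPolynomial (Fin n) R))]
  (Rψ : Dual.D (MvPolynomial (Fin n) R) ⥤ Dual.D A) (adj : DRing.restrictD ψ.toRingHom ⊣ Rψ)

include hψ adj in
/-- if all fibres have dimension `≤ d`, then `H^i(ω ⊗^L_R R') = 0` for `i < -d` and every Noetherian
`R`-algebra `R'`. -/
theorem subsingleton_hd_lbc_restrict_omega_of_lt (R' : Type u) [CommRing R'] [IsNoetherianRing R']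
    [Algebra R R'] [DRing.HasLBaseChange (algebraMap R R')] (d : ℕ)
    (hfib : ∀ q : PrimeSpectrum A,
      FlatMor.fibreDimAt (Spec.map (CommRingCat.ofHom (algebraMap R A))) q ≤ (d : WithBot ℕ∞))
    (i : ℤ) (hi : i < -(d : ℤ)) :
    Subsingleton (Dual.HD R' ((DRing.LBaseChange (algebraMap R R')).obj
      ((DRing.restrictD (algebraMap R A)).obj (Dual2.shriekVia n Rψ (Dual.inD R R)))) i) := by
  haveI : Algebra.FiniteType R A := Algebra.FiniteType.of_surjective ψ hψ
  have hψ' := psiBC_surjective R R' A n ψ hψ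
  haveI : IsNoetherianRing (R' ⊗[R] A) :=
    isNoetherianRing_of_surjective _ _ (psiBC R R' A n ψ).toRingHom hψ'
  haveI := hasLBaseChange (algebraMap R' (MvPolynomial (Fin n) R'))
  haveI := hasLBaseChange
    (Algebra.TensorProduct.includeRight : A →ₐ[R] R' ⊗[R] A).toRingHom
  obtain ⟨Rψ', ⟨adj'⟩⟩ := exists_rightAdjoint_restrictD (psiBC R R' A n ψ).toRingHom
  obtain ⟨e⟩ := Groth.Agent.S1807.result R R' A n ψ hψ Rψ adj n (psiBC R R' A n ψ) hψ' Rψ' adj'
    (Dual.inD R R)
  obtain ⟨eU⟩ := FlatPC.nonempty_lbc_unit_iso (A := R) (B := R')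
  let e2 : Dual2.shriekVia n Rψ' ((DRing.LBaseChange (algebraMap R R')).obj (Dual.inD R R)) ≅
      Dual2.shriekVia n Rψ' (Dual.inD R' R') :=
    (shiftFunctor (Dual.D (R' ⊗[R] A)) (n : ℤ)).mapIso (Rψ'.mapIso
      ((DRing.LBaseChange (algebraMap R' (MvPolynomial (Fin n) R'))).mapIso eU))
  have hfib' := fibreDimAt_baseChange_le R A R' d hfib
  haveI h1 := subsingleton_hd_omega_of_lt R' (R' ⊗[R] A) n (psiBC R R' A n ψ) hψ' Rψ' adj' d
    hfib' i hi
  haveI h2 : Subsingleton (Dual.HD (R' ⊗[R] A) ((DRing.LBaseChange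
      (Algebra.TensorProduct.includeRight : A →ₐ[R] R' ⊗[R] A).toRingHom).obj
        (Dual2.shriekVia n Rψ (Dual.inD R R))) i) :=
    ((homologyFunctor (ModuleCat.{u} (R' ⊗[R] A)) i).mapIso
      (e ≪≫ e2)).toLinearEquiv.toEquiv.subsingleton
  obtain ⟨e3⟩ := Groth.Agent.Lib.Helper35.TA.nonempty_restrict_LBC_iso' R A R'
    (Dual2.shriekVia n Rψ (Dual.inD R R)) (ShP.omega_pseudoCoherent R A n ψ hψ Rψ adj)
  have e4 := (ExactDC.homologyIso (RestrPC.Φ (algebraMap R' (R' ⊗[R] A))) i).app
    ((DRing.LBaseChange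
      (Algebra.TensorProduct.includeRight : A →ₐ[R] R' ⊗[R] A).toRingHom).obj
        (Dual2.shriekVia n Rψ (Dual.inD R R)))
  haveI h3 : Subsingleton ((RestrPC.Φ (algebraMap R' (R' ⊗[R] A))).obj
      ((homologyFunctor (ModuleCat.{u} (R' ⊗[R] A)) i).obj ((DRing.LBaseChange
      (Algebra.TensorProduct.includeRight : A →ₐ[R] R' ⊗[R] A).toRingHom).obj
        (Dual2.shriekVia n Rψ (Dual.inD R R))))) := h2
  have h4 : Subsingleton ((homologyFunctor (ModuleCat.{u} R') i).obj
      ((DRing.restrictD (algebraMap R' (R' ⊗[R] A))).obj ((DRing.LBaseChange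
      (Algebra.TensorProduct.includeRight : A →ₐ[R] R' ⊗[R] A).toRingHom).obj
        (Dual2.shriekVia n Rψ (Dual.inD R R))))) :=
    @Equiv.subsingleton _ _ e4.toLinearEquiv.toEquiv h3
  exact @Equiv.subsingleton _ _
    ((homologyFunctor (ModuleCat.{u} R') i).mapIso e3).toLinearEquiv.symm.toEquiv h4

include hψ adj in
/-- **Tor amplitude of `ω_{A/R}`**: if all fibres of the flat finite type map `R → A` have
dimension `≤ d`, then `ω_{A/R}` has tor amplitude in `[-d, 0]` over `R`. -/
theorem omega_hasTorAmplitudeIn (d : ℕ)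
    (hfib : ∀ q : PrimeSpectrum A,
      FlatMor.fibreDimAt (Spec.map (CommRingCat.ofHom (algebraMap R A))) q ≤ (d : WithBot ℕ∞)) :
    DRing.HasTorAmplitudeIn R (-(d : ℤ)) 0
      ((DRing.restrictD (algebraMap R A)).obj (Dual2.shriekVia n Rψ (Dual.inD R R))) := by
  haveI h0 : (Dual2.shriekVia n Rψ (Dual.inD R R)).IsLE 0 := by
    rw [DerivedCategory.isLE_iff]
    intro i hi
    haveI := subsingleton_hd_omega_of_pos R A n ψ hψ Rψ adj i hi
    exact ModuleCat.isZero_of_subsingleton _
  haveI hd : (Dual2.shriekVia n Rψ (Dual.inD R R)).IsGE (-(d : ℤ)) := by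
    rw [DerivedCategory.isGE_iff]
    intro i hi
    haveI := subsingleton_hd_omega_of_lt R A n ψ hψ Rψ adj d hfib i hi
    exact ModuleCat.isZero_of_subsingleton _
  haveI : ((DRing.restrictD (algebraMap R A)).obj (Dual2.shriekVia n Rψ (Dual.inD R R))).IsLE 0 :=
    RestrPC.isLE_rD (algebraMap R A) _ 0
  haveI : ((DRing.restrictD (algebraMap R A)).obj (Dual2.shriekVia n Rψ (Dual.inD R R))).IsGE
      (-(d : ℤ) - 1 + 1) := by
    have hh : (-(d : ℤ) - 1 + 1) = -(d : ℤ) := by ring
    rw [hh]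
    exact ExactDC.isGE_obj (F := RestrPC.Φ (algebraMap R A)) _ (-(d : ℤ))
  have key := TAmp_of_quot_vanishing
    ((DRing.restrictD (algebraMap R A)).obj (Dual2.shriekVia n Rψ (Dual.inD R R)))
    (ShP.omega_finiteTorDim R A n ψ hψ Rψ adj) (-(d : ℤ) - 1) 0
    (fun I _ => subsingleton_hd_lbc_restrict_omega_of_lt R A n ψ hψ Rψ adj (R ⧸ I) d hfib
      (-(d : ℤ) - 1) (by omega))
    (fun I => hasLBaseChange _)
  have hh : (-(d : ℤ) - 1 + 1) = -(d : ℤ) := by ring
  rwa [hh] at key

end Flat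

end Groth.Agent.Lib.Helper90.QF
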