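import Groth.Agent.Lib.Helper6.HomSingle
import Groth.Prelude.Def_DDual2
import Groth.Prelude.Def_Disc

/-!
# `H^0` of the right adjoint of restriction at `A[0]` is `Hom_A(B, A)` (helper90)
-/

set_option autoImplicit false
set_option linter.unusedSectionVars false
set_option linter.style.haveILetI false
universe u
open CategoryTheory CategoryTheory.Limits DerivedCategory
attribute [local instance] HasDerivedCategory.standard

namespace Groth.Agent.Lib.Helper90.QF

section SingleRes

variable {A B : Type u} [CommRing A] [CommRing B] (f : A →+* B)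

/-- `single ⋙ restrictD ≅ restrictScalars ⋙ single` -/
noncomputable def singleResIso :
    singleFunctor (ModuleCat.{u} B) 0 ⋙ DRing.restrictD f ≅
      ModuleCat.restrictScalars.{u} f ⋙ singleFunctor (ModuleCat.{u} A) 0 :=
  Functor.isoWhiskerRight (singleFunctorIsoCompQ (ModuleCat.{u} B) 0) (DRing.restrictD f) ≪≫
    Functor.associator _ _ _ ≪≫
    Functor.isoWhiskerLeft _ (ModuleCat.restrictScalars.{u} f).mapDerivedCategoryFactors ≪≫
    (Functor.associator _ _ _).symm ≪≫
    Functor.isoWhiskerRight (HomologicalComplex.singleMapHomologicalComplex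
      (ModuleCat.restrictScalars.{u} f) (ComplexShape.up ℤ) 0) Q ≪≫
    Functor.associator _ _ _ ≪≫
    Functor.isoWhiskerLeft _ (singleFunctorIsoCompQ (ModuleCat.{u} A) 0).symm

end SingleRes

section Main

variable {A B : Type u} [CommRing A] [CommRing B] [Algebra A B]
  {R' : Dual.D A ⥤ Dual.D B} (adj : DRing.restrictD (algebraMap A B) ⊣ R')

variable (A B) in
/-- the restricted module `B|_A` as an object -/
noncomputable abbrev resB : ModuleCat.{u} A :=
  (ModuleCat.restrictScalars.{u} (algebraMap A B)).obj (ModuleCat.of B B)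

/-- underlying element -/
def toB (x : ↑(resB A B)) : B := x
/-- underlying element -/
def ofB (x : B) : ↑(resB A B) := x

lemma toB_smul (a : A) (x : ↑(resB A B)) : toB (a • x) = algebraMap A B a * toB x := rfl
lemma toB_add (x y : ↑(resB A B)) : toB (x + y) = toB x + toB y := rfl
lemma toB_ofB (x : B) : toB (ofB (A := A) x) = x := rfl
lemma ofB_toB (x : ↑(resB A B)) : ofB (toB x) = x := rfl

/-- a functional as a linear map on `B|_A` -/
noncomputable def linMap (φ : Disc.Omega A B) : ↑(resB A B) →ₗ[A] A where
  toFun := fun x => φ.toLinearMap (toB x)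
  map_add' := fun x y => by rw [toB_add, map_add]
  map_smul' := fun a x => by
    rw [toB_smul, ← Algebra.smul_def, map_smul]
    rfl

/-- a functional as a morphism `B|_A ⟶ A` -/
noncomputable def linOf (φ : Disc.Omega A B) : resB A B ⟶ ModuleCat.of A A :=
  ConcreteCategory.ofHom (C := ModuleCat.{u} A) (X := resB A B) (Y := ModuleCat.of A A) (linMap φ)

lemma linOf_hom_apply (φ : Disc.Omega A B) (x : ↑(resB A B)) :
    (linOf φ).hom x = φ.toLinearMap (toB x) := rfl

lemma linOf_add (φ ψ : Disc.Omega A B) : linOf (φ + ψ) = linOf φ + linOf ψ := by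
  refine ModuleCat.hom_ext (LinearMap.ext (fun x => ?_))
  rfl

lemma linOf_bijective : Function.Bijective (linOf (A := A) (B := B)) := by
  constructor
  · intro φ ψ h
    ext x
    have := congrArg (fun g : resB A B ⟶ ModuleCat.of A A => g.hom (ofB x)) h
    exact this
  · intro g
    refine ⟨⟨{ toFun := fun x => g.hom (ofB x)
               map_add' := fun x y => g.hom.map_add (ofB x) (ofB y)
               map_smul' := fun a x => by
                 have h := g.hom.map_smul a (ofB x)
                 rw [Algebra.smul_def]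
                 exact h }⟩, ?_⟩
    refine ModuleCat.hom_ext (LinearMap.ext (fun x => ?_))
    rfl

lemma linOf_smul (b : B) (φ : Disc.Omega A B) :
    linOf (b • φ) =
      (ModuleCat.restrictScalars.{u} (algebraMap A B)).map (b • 𝟙 (ModuleCat.of B B)) ≫ linOf φ := by
  refine ModuleCat.hom_ext (LinearMap.ext (fun x => ?_))
  rfl

include adj in
/-- the comparison map `Hom_A(B, A) → Hom(B[0], R'(A[0]))` -/
noncomputable def Phi (φ : Disc.Omega A B) : Dual.inD B B ⟶ R'.obj (Dual.inD A A) :=
  adj.homEquiv _ _ ((singleResIso (algebraMap A B)).hom.app (ModuleCat.of B B) ≫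
    (singleFunctor (ModuleCat.{u} A) 0).map (linOf φ))

lemma Phi_add (φ ψ : Disc.Omega A B) : Phi adj (φ + ψ) = Phi adj φ + Phi adj ψ := by
  dsimp only [Phi]
  rw [linOf_add, Functor.map_add, Preadditive.comp_add]
  exact map_add (adj.homAddEquiv _ _) _ _

lemma Phi_smul (b : B) (φ : Disc.Omega A B) : Phi adj (b • φ) = b • Phi adj φ := by
  have h1 : b • Phi adj φ = (b • 𝟙 (Dual.inD B B)) ≫ Phi adj φ := by
    rw [Linear.smul_comp, Category.id_comp]
  have h2 : b • 𝟙 (Dual.inD B B) =
      (singleFunctor (ModuleCat.{u} B) 0).map (b • 𝟙 (ModuleCat.of B B)) := by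
    rw [Functor.map_smul, CategoryTheory.Functor.map_id]
  rw [h1, h2]
  dsimp only [Phi]
  rw [← Adjunction.homEquiv_naturality_left]
  congr 1
  have h3 := (singleResIso (algebraMap A B)).hom.naturality (b • 𝟙 (ModuleCat.of B B))
  dsimp only [Functor.comp_map] at h3
  rw [← Category.assoc, h3, Category.assoc, ← Functor.map_comp, ← linOf_smul]

lemma Phi_bijective : Function.Bijective (Phi adj) := by
  have h1 := linOf_bijective (A := A) (B := B)
  have h2 := (Functor.FullyFaithful.ofFullyFaithful
    (singleFunctor (ModuleCat.{u} A) 0)).map_bijective (resB A B) (ModuleCat.of A A)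
  have h3 : Function.Bijective (fun x : (singleFunctor (ModuleCat.{u} A) 0).obj (resB A B) ⟶
      Dual.inD A A => (singleResIso (algebraMap A B)).hom.app (ModuleCat.of B B) ≫ x) :=
    ⟨fun _ _ hxy => (cancel_epi _).1 hxy,
      fun w => ⟨(singleResIso (algebraMap A B)).inv.app (ModuleCat.of B B) ≫ w, by
        change (singleResIso (algebraMap A B)).hom.app (ModuleCat.of B B) ≫
          (singleResIso (algebraMap A B)).inv.app (ModuleCat.of B B) ≫ w = w
        rw [Iso.hom_inv_id_app_assoc]⟩⟩
  have h4 := (adj.homEquiv (Dual.inD B B) (Dual.inD A A)).bijective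
  exact h4.comp (h3.comp (h2.comp h1))

/-- `Hom_A(B, A) ≃ Hom(B[0], R'(A[0]))`, `B`-linearly -/
noncomputable def PhiEquiv : Disc.Omega A B ≃ₗ[B] (Dual.inD B B ⟶ R'.obj (Dual.inD A A)) :=
  LinearEquiv.ofBijective
    { toFun := Phi adj
      map_add' := Phi_add adj
      map_smul' := Phi_smul adj } (Phi_bijective adj)

include adj in
theorem nonempty_hd0_equiv :
    Nonempty (Dual.HD B (R'.obj (Dual.inD A A)) 0 ≃ₗ[B] Disc.Omega A B) := by
  obtain ⟨e⟩ := Groth.Agent.Lib.Helper6.HomSingle.nonempty_homSingleEquiv₀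
    (R'.obj (Dual.inD A A))
  exact ⟨(e.symm.trans (PhiEquiv adj).symm)⟩

end Main

end Groth.Agent.Lib.Helper90.QF
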