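import Groth.Agent.Lib.Helper90.QF.HD0
import Groth.Agent.Lib.Helper90.QF.HDFlat
import Groth.Agent.Lib.Helper90.Shriek.ExistsRAdj
import Groth.Agent.S1799
import Groth.Agent.S1784

/-!
# `H^0` of the algebraic relative dualizing complex of a quasi-finite map (helper90)

Reduction to the open immersion case.
-/

set_option autoImplicit false
set_option linter.unusedSectionVars false
set_option linter.style.haveILetI false
universe u
open CategoryTheory CategoryTheory.Limits DerivedCategory AlgebraicGeometry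
open scoped TensorProduct
attribute [local instance] HasDerivedCategory.standard

namespace Groth.Agent.Lib.Helper90.QF

open Groth.Agent.Lib.Helper90.Shriek

lemma subsingleton_hd_inD_of_neg (A : Type u) [CommRing A] (M : Type u) [AddCommGroup M]
    [Module A M] (i : ℤ) (hi : i < 0) : Subsingleton (Dual.HD A (Dual.inD A M) i) := by
  have h : (Dual.inD A M).IsGE 0 := inferInstance
  rw [DerivedCategory.isGE_iff] at h
  exact ModuleCat.subsingleton_of_isZero (h i hi)

theorem result_of_openImm (A B B' : Type u) [CommRing A] [CommRing B] [CommRing B']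
    [IsNoetherianRing A] [IsNoetherianRing B] [Algebra A B] [Algebra A B'] [Algebra B' B]
    [IsScalarTower A B' B] [Module.Finite A B'] [Module.Flat B' B]
    (hopenImm : ∀ (m : ℕ) (χ : MvPolynomial (Fin m) B' →ₐ[B'] B) (_ : Function.Surjective χ)
      [DRing.HasLBaseChange (algebraMap B' (MvPolynomial (Fin m) B'))]
      (Rχ : Dual.D (MvPolynomial (Fin m) B') ⥤ Dual.D B) (_ : DRing.restrictD χ.toRingHom ⊣ Rχ)
      [DRing.HasLBaseChange (algebraMap B' B)] (L : Dual.D B'),
      Nonempty (Dual2.shriekVia m Rχ L ≅ (DRing.LBaseChange (algebraMap B' B)).obj L))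
    (n : ℕ) (ψ : MvPolynomial (Fin n) A →ₐ[A] B) (hψ : Function.Surjective ψ)
    [DRing.HasLBaseChange (algebraMap A (MvPolynomial (Fin n) A))]
    (Rψ : Dual.D (MvPolynomial (Fin n) A) ⥤ Dual.D B) (adj : DRing.restrictD ψ.toRingHom ⊣ Rψ) :
    Nonempty (Dual.HD B (Dual2.shriekVia n Rψ (Dual.inD A A)) 0 ≃ₗ[B]
      (B ⊗[B'] Disc.Omega A B')) := by
  classical
  haveI : IsNoetherianRing B' := IsNoetherianRing.of_finite A B'
  haveI : Algebra.FiniteType A B' := inferInstance
  obtain ⟨k, π, hπ⟩ := Algebra.FiniteType.iff_quotient_mvPolynomial''.mp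
    (inferInstance : Algebra.FiniteType A B')
  haveI : Algebra.FiniteType A B := Algebra.FiniteType.of_surjective ψ hψ
  haveI : Algebra.FiniteType B' B := Algebra.FiniteType.of_restrictScalars_finiteType A B' B
  obtain ⟨m, χ, hχ⟩ := Algebra.FiniteType.iff_quotient_mvPolynomial''.mp
    (inferInstance : Algebra.FiniteType B' B)
  haveI := hasLBaseChange (algebraMap A (MvPolynomial (Fin k) A))
  haveI := hasLBaseChange (algebraMap B' (MvPolynomial (Fin m) B'))
  haveI := hasLBaseChange (algebraMap B' B)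
  obtain ⟨Rπ, ⟨adjπ⟩⟩ := exists_rightAdjoint_restrictD π.toRingHom
  obtain ⟨Rχ, ⟨adjχ⟩⟩ := exists_rightAdjoint_restrictD χ.toRingHom
  obtain ⟨R', ⟨adjR'⟩⟩ := exists_rightAdjoint_restrictD (algebraMap A B')
  obtain ⟨e1⟩ := Groth.Agent.S1799.result A B' B k π hπ Rπ adjπ m χ hχ Rχ adjχ n ψ hψ Rψ adj
    (Dual.inD A A) 0 (fun i hi => subsingleton_hd_inD_of_neg A A i hi)
  obtain ⟨e2⟩ := hopenImm m χ hχ Rχ adjχ (Dual2.shriekVia k Rπ (Dual.inD A A))
  obtain ⟨e3⟩ := Groth.Agent.S1784.result A B' k π hπ Rπ adjπ R' adjR' (Dual.inD A A)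
  let e : Dual2.shriekVia n Rψ (Dual.inD A A) ≅
      (DRing.LBaseChange (algebraMap B' B)).obj (R'.obj (Dual.inD A A)) :=
    e1 ≪≫ e2 ≪≫ (DRing.LBaseChange (algebraMap B' B)).mapIso e3
  obtain ⟨l1⟩ := nonempty_hd_lbc_equiv B' B (R'.obj (Dual.inD A A)) 0
  obtain ⟨l2⟩ := nonempty_hd0_equiv adjR'
  exact ⟨(((homologyFunctor (ModuleCat.{u} B) 0).mapIso e).toLinearEquiv.trans l1).trans
    (TensorProduct.AlgebraTensorModule.congr (LinearEquiv.refl B B) l2)⟩

end Groth.Agent.Lib.Helper90.QF
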