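import Groth.Agent.Lib.Helper35.NilPC
import Groth.Agent.Lib.Helper35.FlatLBC
import Groth.Agent.Lib.Helper35.FlatBC
import Groth.Agent.Lib.Helper35.TARes
import Groth.Agent.Lib.Helper90.QF.LocTensor

/-!
# Top cohomology of a derived base change (helper90)

If `K ∈ D^{≤ t}(A)` and `H^t(K ⊗^L_A B) = 0` then `B ⊗_A H^t(K) = 0`.
-/

set_option autoImplicit false
set_option linter.style.haveILetI false
universe u
open CategoryTheory CategoryTheory.Limits DerivedCategory TensorProduct
attribute [local instance] HasDerivedCategory.standard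

namespace Groth.Agent.Lib.Helper90.QF

open Groth.Agent.Lib.Helper35.FlatBC Groth.Agent.Lib.Helper35.TA Groth.Agent.Lib.Helper35.KL
  Groth.Agent.Lib.Helper35

variable {A B : Type u} [CommRing A] [CommRing B] [Algebra A B]

set_option backward.isDefEq.respectTransparency false in
theorem subsingleton_tensor_hd_of_subsingleton_hd_lbc [DRing.HasLBaseChange (algebraMap A B)]
    (K : Dual.D A) (t : ℤ) [K.IsLE t]
    (h : Subsingleton (Dual.HD B ((DRing.LBaseChange (algebraMap A B)).obj K) t)) :
    Subsingleton (B ⊗[A] Dual.HD A K t) := by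
  obtain ⟨E, hv, hproj, ⟨e⟩⟩ := exists_projective_rep K t
  have hflat : ∀ i : ℤ, Module.Flat A (E.X i) := fun i => by
    have := hproj i
    infer_instance
  obtain ⟨e1⟩ := nonempty_lbc_iso_of_flat (algebraMap A B) E t hv hflat
  have hvB : DRing.VanishesAbove (((ModuleCat.extendScalars.{u, u, u}
      (algebraMap A B)).mapHomologicalComplex (ComplexShape.up ℤ)).obj E) t := fun i hi =>
    CategoryTheory.Functor.map_isZero (ModuleCat.extendScalars.{u, u, u} (algebraMap A B)) (hv i hi)
  -- the top cohomology of the extended complex vanishes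
  have hq : Subsingleton (((ModuleCat.extendScalars.{u, u, u} (algebraMap A B)).obj (E.X t)) ⧸
      LinearMap.range ((ModuleCat.extendScalars.{u, u, u} (algebraMap A B)).map
        (E.d (t - 1) t)).hom) := by
    have l := ((homologyFunctor (ModuleCat.{u} B) t).mapIso
      ((DRing.LBaseChange (algebraMap A B)).mapIso e.symm ≪≫ e1)).toLinearEquiv ≪≫ₗ
        topHomologyLinearEquiv _ t hvB
    exact l.symm.toEquiv.subsingleton
  have hs0 : Function.Surjective ((ModuleCat.extendScalars.{u, u, u} (algebraMap A B)).map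
      (E.d (t - 1) t)).hom := by
    rw [← LinearMap.range_eq_top]
    exact Submodule.Quotient.subsingleton_iff.1 hq
  have hs : Function.Surjective ((E.d (t - 1) t).hom.lTensor (B' A B)) := hs0
  -- the cokernel
  set C := E.X t ⧸ LinearMap.range (E.d (t - 1) t).hom with hC
  have hCz : Subsingleton (B' A B ⊗[A] C) := by
    refine ⟨fun x y => ?_⟩
    have h0 : ∀ z : B' A B ⊗[A] C, z = 0 := by
      intro z
      obtain ⟨w, rfl⟩ := LinearMap.lTensor_surjective (B' A B)
        (Submodule.mkQ_surjective (LinearMap.range (E.d (t - 1) t).hom)) z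
      obtain ⟨v, rfl⟩ := hs w
      rw [← LinearMap.comp_apply, ← LinearMap.lTensor_comp]
      have hcomp : (LinearMap.range (E.d (t - 1) t).hom).mkQ ∘ₗ (E.d (t - 1) t).hom = 0 :=
        LinearMap.range_mkQ_comp _
      rw [hcomp, LinearMap.lTensor_zero, LinearMap.zero_apply]
    rw [h0 x, h0 y]
  have l2 : Dual.HD A K t ≃ₗ[A] C :=
    ((homologyFunctor (ModuleCat.{u} A) t).mapIso e.symm).toLinearEquiv ≪≫ₗ
      topHomologyLinearEquiv E t hv
  exact (TensorProduct.congr (e₁ A B).symm l2).toEquiv.subsingleton

end Groth.Agent.Lib.Helper90.QF
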