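import Groth.Agent.Lib.Helper90.QF.OmegaField
import Groth.Agent.Lib.Helper90.QF.TopBC
import Groth.Agent.Lib.Helper90.QF.LocTensor
import Groth.Agent.Lib.Helper6.ShP6
import Groth.Agent.Lib.Helper6.ShP13
import Groth.Agent.S1807

/-!
# `H^i(ω_{A/R}) = 0` for `i > 0` when `R → A` is flat of finite type (helper90)
-/

set_option autoImplicit false
set_option linter.style.haveILetI false
set_option linter.unusedSectionVars false
universe u
open CategoryTheory CategoryTheory.Limits DerivedCategory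
open scoped TensorProduct
attribute [local instance] HasDerivedCategory.standard

namespace Groth.Agent.Lib.Helper90.QF

open Groth.Agent.Lib.Helper90.Shriek Groth.Agent.Lib.Helper6

variable (R A : Type u) [CommRing R] [CommRing A] [IsNoetherianRing R] [IsNoetherianRing A]
  [Algebra R A] [Module.Flat R A] (n : ℕ) (ψ : MvPolynomial (Fin n) R →ₐ[R] A)
  (hψ : Function.Surjective ψ) [DRing.HasLBaseChange (algebraMap R (MvPolynomial (Fin n) R))]
  (Rψ : Dual.D (MvPolynomial (Fin n) R) ⥤ Dual.D A) (adj : DRing.restrictD ψ.toRingHom ⊣ Rψ)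

include hψ adj in
/-- base change of `ω_{A/R}` to a field `k` over `R` has no cohomology in positive degrees. -/
theorem subsingleton_hd_lbc_omega_field_of_pos (k : Type u) [Field k] [Algebra R k]
    [DRing.HasLBaseChange (Algebra.TensorProduct.includeRight : A →ₐ[R] k ⊗[R] A).toRingHom]
    (j : ℤ) (hj : 0 < j) :
    Subsingleton (Dual.HD (k ⊗[R] A) ((DRing.LBaseChange
      (Algebra.TensorProduct.includeRight : A →ₐ[R] k ⊗[R] A).toRingHom).obj
        (Dual2.shriekVia n Rψ (Dual.inD R R))) j) := by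
  have hψ' := psiBC_surjective R k A n ψ hψ
  haveI : IsNoetherianRing (k ⊗[R] A) :=
    isNoetherianRing_of_surjective _ _ (psiBC R k A n ψ).toRingHom hψ'
  haveI := hasLBaseChange (algebraMap k (MvPolynomial (Fin n) k))
  haveI := hasLBaseChange (algebraMap R k)
  obtain ⟨Rψ', ⟨adj'⟩⟩ := exists_rightAdjoint_restrictD (psiBC R k A n ψ).toRingHom
  obtain ⟨e⟩ := Groth.Agent.S1807.result R k A n ψ hψ Rψ adj n (psiBC R k A n ψ) hψ' Rψ' adj'
    (Dual.inD R R)
  obtain ⟨eU⟩ := FlatPC.nonempty_lbc_unit_iso (A := R) (B := k)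
  haveI h := subsingleton_hd_shriek_field_of_pos k (k ⊗[R] A) n (psiBC R k A n ψ) hψ' Rψ' adj' j hj
  let e2 : Dual2.shriekVia n Rψ' ((DRing.LBaseChange (algebraMap R k)).obj (Dual.inD R R)) ≅
      Dual2.shriekVia n Rψ' (Dual.inD k k) :=
    (shiftFunctor (Dual.D (k ⊗[R] A)) (n : ℤ)).mapIso (Rψ'.mapIso
      ((DRing.LBaseChange (algebraMap k (MvPolynomial (Fin n) k))).mapIso eU))
  exact ((homologyFunctor (ModuleCat.{u} (k ⊗[R] A)) j).mapIso
    (e ≪≫ e2)).toLinearEquiv.toEquiv.subsingleton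

include hψ adj in
/-- for a field `k` over `R` and an `A`-algebra `B` receiving `k ⊗[R] A` compatibly, the top
cohomology of `ω` (in a positive degree) dies after tensoring with `B`. -/
theorem subsingleton_tensor_hd_omega_of_field (k : Type u) [Field k] [Algebra R k]
    (B : Type u) [CommRing B] [Algebra A B] (g : k ⊗[R] A →+* B)
    (hg : ∀ a : A, g ((1 : k) ⊗ₜ[R] a) = algebraMap A B a)
    (j : ℤ) (hj : 0 < j) [(Dual2.shriekVia n Rψ (Dual.inD R R)).IsLE j] :
    Subsingleton (B ⊗[A] Dual.HD A (Dual2.shriekVia n Rψ (Dual.inD R R)) j) := by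
  letI : Algebra A (k ⊗[R] A) :=
    (Algebra.TensorProduct.includeRight : A →ₐ[R] k ⊗[R] A).toRingHom.toAlgebra
  haveI hL : DRing.HasLBaseChange (algebraMap A (k ⊗[R] A)) := hasLBaseChange _
  have h1 : Subsingleton (Dual.HD (k ⊗[R] A) ((DRing.LBaseChange
      (algebraMap A (k ⊗[R] A))).obj (Dual2.shriekVia n Rψ (Dual.inD R R))) j) :=
    @subsingleton_hd_lbc_omega_field_of_pos R A _ _ _ _ _ _ n ψ hψ _ Rψ adj k _ _ hL j hj
  have h2 := subsingleton_tensor_hd_of_subsingleton_hd_lbc (A := A) (B := k ⊗[R] A)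
    (Dual2.shriekVia n Rψ (Dual.inD R R)) j h1
  exact subsingleton_tensor_of_factor (A := A) (B := k ⊗[R] A) (C := B) g
    (fun a => hg a) _ h2

include hψ adj in
/-- **`H^j(ω_{A/R}) = 0` for `j > 0`** when `R → A` is flat of finite type. -/
theorem subsingleton_hd_omega_of_pos (j : ℤ) (hj : 0 < j) :
    Subsingleton (Dual.HD A (Dual2.shriekVia n Rψ (Dual.inD R R)) j) := by
  obtain ⟨a, b, hb⟩ := ShP.omega_bounded R A n ψ hψ Rψ adj
  have key : ∀ m : ℕ, ∀ j : ℤ, 0 < j → b - m < j →
      Subsingleton (Dual.HD A (Dual2.shriekVia n Rψ (Dual.inD R R)) j) := by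
    intro m
    induction m with
    | zero =>
      intro j _ h
      exact hb j (Or.inr (by simpa using h))
    | succ m ih =>
      intro j hj0 h
      by_cases hlt : b - m < j
      · exact ih j hj0 hlt
      · push Not at hlt
        haveI : (Dual2.shriekVia n Rψ (Dual.inD R R)).IsLE j := by
          rw [DerivedCategory.isLE_iff]
          intro i hi
          haveI := ih i (by omega) (by omega)
          exact ModuleCat.isZero_of_subsingleton _
        haveI := ShP.omega_finite R A n ψ hψ Rψ adj j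
        refine subsingleton_of_forall_tensor_quotient_maximal (A := A) _ ?_
        intro 𝔪 h𝔪
        letI : Field (A ⧸ 𝔪) := Ideal.Quotient.field 𝔪
        let g : (A ⧸ 𝔪) ⊗[R] A →ₐ[R] (A ⧸ 𝔪) :=
          Algebra.TensorProduct.lift (AlgHom.id R (A ⧸ 𝔪)) (IsScalarTower.toAlgHom R A (A ⧸ 𝔪))
            (fun _ _ => Commute.all _ _)
        refine subsingleton_tensor_hd_omega_of_field R A n ψ hψ Rψ adj (A ⧸ 𝔪) (A ⧸ 𝔪)
          g.toRingHom ?_ j hj0
        intro x
        change g ((1 : A ⧸ 𝔪) ⊗ₜ[R] x) = _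
        rw [Algebra.TensorProduct.lift_tmul]
        simp
  exact key (b - j + 1).toNat j hj (by omega)

end Groth.Agent.Lib.Helper90.QF
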